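import Groth.Agent.TopPull.Stalk
import Groth.Agent.SpecSpLib.Basic

/-!
# Sections over a closed subset meeting all closures of points in connected sets
-/

set_option autoImplicit false

universe u

open CategoryTheory CategoryTheory.Limits TopologicalSpace Opposite TopCat Topology

set_option backward.isDefEq.respectTransparency false

noncomputable section

namespace Groth.Agent.TopPull

variable {X : TopCat.{u}} [SpectralSpace X] (F : X.Sheaf (Type u))

/-- Compatible stalk data along specializations to a closed set come from a global section. -/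
theorem exists_section_of_data (Z : Set X) (hZ : IsClosed Z)
    (hconn : ∀ x : X, _root_.IsConnected (Z ∩ closure {x})) (t : ∀ z ∈ Z, F.presheaf.stalk z)
    (hloc : ∀ z ∈ Z, ∃ (V : Opens X) (s : F.presheaf.obj (op V)), z ∈ V ∧ IsCompact (V : Set X) ∧
      ∀ w (hw : w ∈ Z) (hwV : w ∈ V), F.presheaf.germ V w hwV s = t w hw) :
    ∃ s : F.presheaf.obj (op ⊤), ∀ w (hw : w ∈ Z), F.presheaf.germ ⊤ w trivial s = t w hw := by
  classical
  choose V s hzV hVc hVs using hloc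
  -- value at every point
  let v : ∀ (x z : X), x ⤳ z → z ∈ Z → F.presheaf.stalk x :=
    fun x z h hz ↦ F.presheaf.stalkSpecializes h (t z hz)
  have hv : ∀ (x z : X) (h : x ⤳ z) (hz : z ∈ Z) (z₀ : X) (hz₀ : z₀ ∈ Z) (hzV₀ : z ∈ V z₀ hz₀),
      v x z h hz = F.presheaf.germ (V z₀ hz₀) x (h.mem_open (V z₀ hz₀).2 hzV₀) (s z₀ hz₀) := by
    intro x z h hz z₀ hz₀ hzV₀
    show F.presheaf.stalkSpecializes h (t z hz) = _
    rw [← hVs z₀ hz₀ z hz hzV₀]
    exact F.presheaf.germ_stalkSpecializes_apply hzV₀ h (s z₀ hz₀)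
  have hindep : ∀ (x z z' : X) (h : x ⤳ z) (hz : z ∈ Z) (h' : x ⤳ z') (hz' : z' ∈ Z),
      v x z h hz = v x z' h' hz' := by
    intro x z z' h hz h' hz'
    let T := (Z ∩ closure {x} : Set X)
    haveI : PreconnectedSpace T := isPreconnected_iff_preconnectedSpace.mp (hconn x).isPreconnected
    let φ : T → F.presheaf.stalk x := fun w ↦ v x w.1 (specializes_iff_mem_closure.mpr w.2.2) w.2.1
    have hφ : IsLocallyConstant φ := by
      rw [IsLocallyConstant.iff_exists_open]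
      intro w
      refine ⟨Subtype.val ⁻¹' (V w.1 w.2.1 : Set X), (V w.1 w.2.1).2.preimage continuous_subtype_val,
        hzV w.1 w.2.1, fun w' hw' ↦ ?_⟩
      exact (hv _ _ _ w'.2.1 w.1 w.2.1 hw').trans (hv _ _ _ w.2.1 w.1 w.2.1 (hzV w.1 w.2.1)).symm
    exact hφ.apply_eq_of_preconnectedSpace ⟨z, hz, specializes_iff_mem_closure.mp h⟩
      ⟨z', hz', specializes_iff_mem_closure.mp h'⟩
  choose ζ hζZ hζ using fun x ↦ (hconn x).nonempty
  let τ : ∀ x : X, F.presheaf.stalk x := fun x ↦ v x (ζ x) (specializes_iff_mem_closure.mpr (hζ x)) (hζZ x)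
  have hτ : ∀ (x z : X) (h : x ⤳ z) (hz : z ∈ Z), τ x = v x z h hz := fun x z h hz ↦
    hindep x _ z _ _ h hz
  -- continuity
  obtain ⟨T, hT⟩ := hZ.isCompact.elim_finite_subcover (fun z : Z ↦ (V z.1 z.2 : Set X))
    (fun z ↦ (V z.1 z.2).2) (fun x hx ↦ Set.mem_iUnion.mpr ⟨⟨x, hx⟩, hzV x hx⟩)
  have hnbhd : ∀ z (hz : z ∈ Z), ∃ W : Opens X, z ∈ W ∧ ∃ hWV : W ≤ V z hz, ∀ y (hy : y ∈ W),
      F.presheaf.germ (V z hz) y (hWV hy) (s z hz) = τ y := by
    intro z hz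
    let U := V z hz
    let E : Z → Set X := fun k ↦ {y | ∃ (h₁ : y ∈ U) (h₂ : y ∈ V k.1 k.2),
      F.presheaf.germ U y h₁ (s z hz) = F.presheaf.germ (V k.1 k.2) y h₂ (s k.1 k.2)}
    have hE : ∀ k, IsOpen (E k) := fun k ↦ isOpen_iff_forall_mem_open.mpr fun y ⟨h₁, h₂, he⟩ ↦ by
      obtain ⟨W, hyW, i₁, i₂, hW⟩ := F.presheaf.germ_eq y h₁ h₂ _ _ he
      refine ⟨W, fun w hw ↦ ⟨i₁.le hw, i₂.le hw, ?_⟩, W.2, hyW⟩
      rw [← F.presheaf.germ_res_apply i₁ w hw, hW, F.presheaf.germ_res_apply i₂ w hw]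
    let gen : Z → Set X := fun k ↦ {y | ∃ e ∈ Z ∩ (V k.1 k.2 : Set X), y ⤳ e}
    let B : Z → Set X := fun k ↦ ((U : Set X) ∩ V k.1 k.2) ∩ (E k)ᶜ ∩ gen k
    have hBcl : ∀ k, IsOpen[constructibleTopology X] (B k)ᶜ := by
      intro k
      simp only [B, Set.compl_inter, compl_compl]
      refine @IsOpen.union X _ _ (constructibleTopology X) (@IsOpen.union X _ _ (constructibleTopology X) ?_ ?_) ?_
      · refine @IsOpen.union X _ _ (constructibleTopology X)
          (SpecSpLib.isClopen_of_isCompact U.2 (hVc z hz)).2 (SpecSpLib.isClopen_of_isCompact (V k.1 k.2).2 (hVc k.1 k.2)).2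
      · exact ConsTop.isOpen_cons_of_isOpen (hE k)
      · show IsOpen[constructibleTopology X] (gen k)ᶜ
        rw [show gen k = _ from SpecSpLib.generalizations_eq_sInter ((hVc k.1 k.2).inter_left hZ), Set.compl_sInter]
        refine @isOpen_sUnion X (constructibleTopology X) _ fun _ ⟨O, ⟨hO, hOc, _⟩, hO'⟩ ↦ ?_
        exact hO' ▸ (SpecSpLib.isClopen_of_isCompact hO hOc).2
    have hzB : ∀ k, z ∉ closure (B k) := fun k hk ↦ by
      obtain ⟨e, ⟨⟨⟨he₁, he₂⟩, heE⟩, e', ⟨he'Z, he'V⟩, hee'⟩, hez⟩ := SpecSpLib.exists_specializes (hBcl k) hk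
      refine heE ⟨he₁, he₂, ?_⟩
      exact ((hv e z hez hz z hz (hzV z hz)).symm.trans (hτ e z hez hz).symm).trans
        ((hτ e e' hee' he'Z).trans (hv e e' hee' he'Z k.1 k.2 he'V))
    refine ⟨U ⊓ ⟨(⋃ k ∈ T, closure (B k))ᶜ, (T.finite_toSet.isClosed_biUnion fun k _ ↦ isClosed_closure).isOpen_compl⟩,
      ⟨hzV z hz, fun h ↦ ?_⟩, inf_le_left, fun y ⟨hyU, hyB⟩ ↦ ?_⟩
    · obtain ⟨k, -, hk⟩ := Set.mem_iUnion₂.mp h
      exact hzB k hk
    · obtain ⟨k, hkT, hk⟩ := Set.mem_iUnion₂.mp (hT (hζZ y))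
      have hsp := specializes_iff_mem_closure.mpr (hζ y)
      have hyk : y ∈ V k.1 k.2 := hsp.mem_open (V k.1 k.2).2 hk
      obtain ⟨h₁, h₂, he⟩ : y ∈ E k := by_contra fun hyE ↦
        hyB (Set.mem_iUnion₂.mpr ⟨k, hkT, subset_closure ⟨⟨⟨hyU, hyk⟩, hyE⟩, ζ y, ⟨hζZ y, hk⟩, hsp⟩⟩)
      exact he.trans (hv y _ hsp (hζZ y) k.1 k.2 hk).symm
  choose W hzW hWV hW using hnbhd
  let U : X → Opens X := fun x ↦ W (ζ x) (hζZ x)
  let sec : ∀ x, F.presheaf.obj (op (U x)) := fun x ↦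
    F.presheaf.map (homOfLE (hWV (ζ x) (hζZ x))).op (s (ζ x) (hζZ x))
  have hsec : ∀ x y (hy : y ∈ U x), F.presheaf.germ (U x) y hy (sec x) = τ y := fun x y hy ↦
    (F.presheaf.germ_res_apply (homOfLE (hWV (ζ x) (hζZ x))) y hy _).trans (hW (ζ x) (hζZ x) y hy)
  have hcov : (⊤ : Opens X) ≤ iSup U := fun x _ ↦ Opens.mem_iSup.mpr
    ⟨x, (specializes_iff_mem_closure.mpr (hζ x)).mem_open (U x).2 (hzW (ζ x) (hζZ x))⟩
  obtain ⟨g, hg, -⟩ := F.existsUnique_gluing' U ⊤ (fun x ↦ homOfLE le_top) hcov sec fun x x' ↦ by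
    refine TopCat.Presheaf.section_ext F _ _ _ fun y hy ↦ ?_
    refine ((F.presheaf.germ_res_apply _ y hy _).trans (hsec x y _)).trans ?_
    exact ((F.presheaf.germ_res_apply _ y hy _).trans (hsec x' y _)).symm
  refine ⟨g, fun w hw ↦ ?_⟩
  have hwU : w ∈ U w := (specializes_iff_mem_closure.mpr (hζ w)).mem_open (U w).2 (hzW (ζ w) (hζZ w))
  have h1 := hsec w w hwU
  rw [← hg w, F.presheaf.germ_res_apply] at h1
  rw [h1, hτ w w specializes_rfl hw]
  exact ConcreteCategory.congr_hom (TopCat.Presheaf.stalkSpecializes_refl F.presheaf w) (t w hw)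

/-- Restriction of sections to a closed subset meeting all closures of points in connected sets is
bijective. -/
theorem unit_app_top_bijective (Z : Set X) (hZ : IsClosed Z)
    (hconn : ∀ x : X, _root_.IsConnected (Z ∩ closure {x})) :
    Function.Bijective
      (((TopCat.Sheaf.pullbackPushforwardAdjunction (Type u)
        (TopCat.ofHom ⟨(Subtype.val : Z → X), continuous_subtype_val⟩)).unit.app F).hom.app (op ⊤)) := by
  let i : TopCat.of Z ⟶ X := TopCat.ofHom ⟨(Subtype.val : Z → X), continuous_subtype_val⟩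
  let G := (TopCat.Sheaf.pullback (Type u) i).obj F
  let η := (TopCat.Sheaf.pullbackPushforwardAdjunction (Type u) i).unit.app F
  choose e he hgerm using fun z : TopCat.of Z ↦ exists_stalk_bijective i F z
  constructor
  · intro a b hab
    refine TopCat.Presheaf.section_ext F _ _ _ fun x _ ↦ ?_
    obtain ⟨z, hzZ, hz⟩ := (hconn x).nonempty
    have hxz : x ⤳ z := specializes_iff_mem_closure.mpr hz
    have : F.presheaf.germ ⊤ z trivial a = F.presheaf.germ ⊤ z trivial b := by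
      refine (he ⟨z, hzZ⟩).1 ?_
      exact ((hgerm ⟨z, hzZ⟩ ⊤ trivial a).symm.trans (congrArg _ hab)).trans (hgerm ⟨z, hzZ⟩ ⊤ trivial b)
    have h2 := congrArg (F.presheaf.stalkSpecializes hxz) this
    rwa [F.presheaf.germ_stalkSpecializes_apply, F.presheaf.germ_stalkSpecializes_apply] at h2
  · intro σ
    let gσ : ∀ z : TopCat.of Z, G.presheaf.stalk z := fun z ↦ G.presheaf.germ ((Opens.map i).obj ⊤) z trivial σ
    choose t ht using fun z : TopCat.of Z ↦ (he z).2 (gσ z)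
    obtain ⟨s, hs⟩ := exists_section_of_data F Z hZ hconn (fun z hz ↦ t ⟨z, hz⟩) fun z hz ↦ by
      obtain ⟨U, hzU, a, ha⟩ := F.presheaf.exists_germ_eq (x := z) (t ⟨z, hz⟩)
      have h0 : G.presheaf.germ ((Opens.map i).obj U) ⟨z, hz⟩ hzU (η.hom.app (op U) a) = gσ ⟨z, hz⟩ :=
        (hgerm ⟨z, hz⟩ U hzU a).trans ((congrArg (e ⟨z, hz⟩) ha).trans (ht ⟨z, hz⟩))
      obtain ⟨N, hzN, i₁, i₂, hN⟩ := G.presheaf.germ_eq (⟨z, hz⟩ : TopCat.of Z) hzU (show (⟨z, hz⟩ : TopCat.of Z) ∈ (Opens.map i).obj ⊤ from True.intro) _ σ h0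
      obtain ⟨O, hO, hON⟩ := isOpen_induced_iff.mp N.2
      have hzO : z ∈ O := by
        have : (⟨z, hz⟩ : Z) ∈ Subtype.val ⁻¹' O := hON ▸ hzN
        exact this
      obtain ⟨Q, ⟨hQo, hQc⟩, hzQ, hQle⟩ := PrespectralSpace.isTopologicalBasis.exists_subset_of_mem_open
        (show z ∈ O ∩ U from ⟨hzO, hzU⟩) (hO.inter U.2)
      refine ⟨⟨Q, hQo⟩, F.presheaf.map (homOfLE fun y hy ↦ (hQle hy).2).op a, hzQ, hQc, fun w hw hwQ ↦ ?_⟩
      rw [F.presheaf.germ_res_apply]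
      refine (he ⟨w, hw⟩).1 ((hgerm ⟨w, hw⟩ U (hQle hwQ).2 a).symm.trans (Eq.trans ?_ (ht ⟨w, hw⟩).symm))
      have hwN : (⟨w, hw⟩ : Z) ∈ N := by
        rw [← SetLike.mem_coe, Opens.coe_mk] at *
        exact hON.le (hQle hwQ).1
      show G.presheaf.germ _ _ _ (η.hom.app (op U) a) = G.presheaf.germ _ _ (show (⟨w, hw⟩ : TopCat.of Z) ∈ (Opens.map i).obj ⊤ from True.intro) σ
      rw [← G.presheaf.germ_res_apply i₁ _ hwN, hN, G.presheaf.germ_res_apply i₂ _ hwN]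
    refine ⟨s, TopCat.Presheaf.section_ext G _ _ _ fun z _ ↦ ?_⟩
    refine (hgerm z ⊤ trivial s).trans ?_
    exact (congrArg (e z) (hs z.1 z.2)).trans (ht z)

end Groth.Agent.TopPull
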