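import Mathlib.Topology.Sheaves.Functors
import Mathlib.Topology.Sheaves.Stalks
import Mathlib.Topology.Sheaves.Sheafify

/-!
# Stalks of inverse images of sheaves of sets
-/

set_option autoImplicit false

universe u

open CategoryTheory CategoryTheory.Limits TopologicalSpace Opposite TopCat

set_option backward.isDefEq.respectTransparency false

noncomputable section

namespace Groth.Agent.TopPull

variable {Z X : TopCat.{u}} (i : Z ⟶ X) (F : X.Sheaf (Type u))

/-- The unit of the inverse image adjunction is, on stalks, the comparison bijection. -/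
theorem exists_stalk_bijective (z : Z) :
    ∃ e : F.presheaf.stalk (i z) → ((TopCat.Sheaf.pullback (Type u) i).obj F).presheaf.stalk z,
      Function.Bijective e ∧ ∀ (V : Opens X) (hz : i z ∈ V) (s : F.presheaf.obj (op V)),
        ((TopCat.Sheaf.pullback (Type u) i).obj F).presheaf.germ ((Opens.map i).obj V) z hz
          (((TopCat.Sheaf.pullbackPushforwardAdjunction (Type u) i).unit.app F).hom.app (op V) s) =
        e (F.presheaf.germ V (i z) hz s) := by
  let G := Opens.map i
  let adj := Functor.sheafAdjunctionContinuous G (Type u) (Opens.grothendieckTopology X) (Opens.grothendieckTopology Z)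
  let adj' := Functor.sheafPullbackConstruction.sheafAdjunctionContinuous G (Type u)
    (Opens.grothendieckTopology X) (Opens.grothendieckTopology Z)
  let j := (adj'.leftAdjointUniq adj).hom.app F
  have hunit : (TopCat.Sheaf.pullbackPushforwardAdjunction (Type u) i).unit.app F =
      adj'.unit.app F ≫ (G.sheafPushforwardContinuous (Type u) _ _).map j :=
    (Adjunction.unit_leftAdjointUniq_hom_app adj' adj F).symm
  let P := (TopCat.Presheaf.pullback (Type u) i).obj F.presheaf
  let σ : P ⟶ (CategoryTheory.sheafify (Opens.grothendieckTopology Z) P) := CategoryTheory.toSheafify _ P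
  have hunit' : ∀ V : Opens X, ((adj'.unit.app F).hom.app (op V) : _ ⟶ _) =
      ((TopCat.Presheaf.pullbackPushforwardAdjunction (Type u) i).unit.app F.presheaf).app (op V) ≫
        σ.app (op (G.obj V)) := by
    intro V
    simp [adj', σ, P, Functor.sheafPullbackConstruction.sheafAdjunctionContinuous,
      TopCat.Presheaf.pullbackPushforwardAdjunction]
    rfl
  refine ⟨fun t ↦ (TopCat.Presheaf.stalkFunctor (Type u) z).map j.hom
      ((TopCat.Presheaf.stalkFunctor (Type u) z).map σ (TopCat.Presheaf.stalkPullbackHom _ i F.presheaf z t)),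
    ?_, fun V hz s ↦ ?_⟩
  · haveI : IsIso j.hom := (CategoryTheory.sheafToPresheaf _ _).map_isIso j
    haveI : IsIso ((TopCat.Presheaf.stalkFunctor (Type u) z).map σ) :=
      TopCat.Presheaf.stalkFunctor_map_unit_toSheafify_isIso z (Type u) P
    haveI : IsIso (TopCat.Presheaf.stalkPullbackHom _ i F.presheaf z) :=
      (TopCat.Presheaf.stalkPullbackIso _ i F.presheaf z).isIso_hom
    exact (((isIso_iff_bijective _).mp inferInstance).comp ((isIso_iff_bijective _).mp inferInstance)).comp
      ((isIso_iff_bijective _).mp inferInstance)
  · rw [hunit]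
    have h1 := ConcreteCategory.congr_hom (TopCat.Presheaf.germ_stalkPullbackHom (Type u) i F.presheaf z V hz) s
    have h2 := fun t ↦ TopCat.Presheaf.stalkFunctor_map_germ_apply (G.obj V) z hz σ t
    have h3 := fun t ↦ TopCat.Presheaf.stalkFunctor_map_germ_apply (G.obj V) z hz j.hom t
    refine ((h3 _).symm.trans (congrArg _ ?_))
    refine Eq.trans ?_ ((h2 _).symm.trans (congrArg _ h1.symm))
    exact congrArg _ (ConcreteCategory.congr_hom (hunit' V) s)

end Groth.Agent.TopPull
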